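import Cfsg.Agent.H210.On7.Fif
import Cfsg.Agent.H210.Theta
import Cfsg.Agent.H894.J4TwoMain

/-!
# A character of degree 175616 of a group with the local data of the O'Nan group (helper210)
-/

set_option autoImplicit false

open Cfsg Subgroup
open scoped ComplexConjugate

namespace Cfsg.Agent.H210.On7

open Cfsg.Agent.Characters.Core
open Cfsg.Agent.H653.Sieve
open Cfsg.Agent.H894.J4Two (apply_eq_of_isConj exists_col_rat exists_col_prime nc_of_card orderOf_of_card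
  orderOf_eq_of_isConj)

universe u

variable {G : Type u} [Group G] [Finite G]

/-- the local data of the O'Nan group -/
structure Data (G : Type u) [Group G] where
  card : Nat.card G = 460815505920
  z : G
  y : G
  x : G
  E : Subgroup G
  P : Subgroup G
  oz : orderOf z = 3
  oy : orderOf y = 5
  ox : orderOf x = 15
  c3 : ∀ w : G, orderOf w = 3 → IsConj w z
  cz : Nat.card (centralizer ({z} : Set G)) = 3240
  hy : ∀ w ∈ zpowers y, w ≠ 1 → IsConj w y
  cy : Nat.card (centralizer ({y} : Set G)) = 180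
  cx : Nat.card (centralizer ({x} : Set G)) = 45
  x3 : IsConj (x ^ 3) y
  fx : Fifteen x
  nx : ¬ IsConj x (x ^ 2)
  cardE : Nat.card E = 81
  expE : ∀ w ∈ E, w ≠ 1 → orderOf w = 3
  cardP : Nat.card P = 9
  expP : ∀ w ∈ P, w ≠ 1 → orderOf w = 3
  comm : ∀ a ∈ zpowers y, ∀ b ∈ P, a * b = b * a
  sum : ∀ a ∈ zpowers y, a ≠ 1 → ∀ χ : G → ℂ, IsClassFunction G χ → ∀ _ : Fintype P,
    ∑ b : P, χ (a * b) = χ y + 4 * (χ x + χ (x ^ 2))
  h11 : ∀ Q : Subgroup G, Nat.card Q = 11 → Nat.card (centralizer (Q : Set G)) = 11 ∧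
    Nat.card (normalizer (Q : Set G)) = 11 * 10
  h19 : ∀ Q : Subgroup G, Nat.card Q = 19 → Nat.card (centralizer (Q : Set G)) = 19 ∧
    Nat.card (normalizer (Q : Set G)) = 19 * 6
  h31 : ∀ Q : Subgroup G, Nat.card Q = 31 → Nat.card (centralizer (Q : Set G)) = 31 ∧
    Nat.card (normalizer (Q : Set G)) = 31 * 15

/-- a value against a column -/
theorem sum_val_mul_col [Fintype (IrrCharacter G)] {g : G} {H : Subgroup G} {e : ℕ} {W : IrrCharacter G → ℤ}
    (hW : IsCol H e W) (he : e ≠ 0) (h : ∀ z ∈ H, z ≠ 1 → ¬ IsConj g z) :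
    ∑ χ : IrrCharacter G, (χ : G → ℂ) g * W χ = 0 := by
  classical
  have := Fintype.ofFinite G
  have := Fintype.ofFinite H
  have h1 : ∀ χ : IrrCharacter G, (e : ℂ) * ((χ : G → ℂ) g * W χ) =
      ∑ z ∈ (Finset.univ : Finset H).erase 1, (χ : G → ℂ) g * conj ((χ : G → ℂ) z) := by
    intro χ
    have h2 := hW χ
    have h3 : conj ((e : ℂ) * W χ) = (e : ℂ) * W χ := by simp
    rw [← Finset.mul_sum, ← map_sum, ← csum_eq_erase, ← h2, h3]
    ring
  have h4 : (e : ℂ) * ∑ χ : IrrCharacter G, (χ : G → ℂ) g * W χ = 0 := by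
    rw [Finset.mul_sum, Finset.sum_congr rfl fun χ _ => h1 χ, Finset.sum_comm, Finset.sum_eq_zero]
    intro z hz
    rw [S0145.sum_irr_mul_conj, if_neg]
    exact h z z.2 fun e => (Finset.mem_erase.1 hz).1 (Subtype.ext e)
  exact (mul_eq_zero.1 h4).resolve_left (by exact_mod_cast he)

/-- a value against the degrees -/
theorem sum_val_mul_deg [Fintype (IrrCharacter G)] {g : G} (h : g ≠ 1) :
    ∑ χ : IrrCharacter G, (χ : G → ℂ) g * (deg χ : ℂ) = 0 := by
  classical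
  have := Fintype.ofFinite G
  have h1 := S0145.sum_irr_mul_conj g (1 : G)
  rw [if_neg (by rw [isConj_comm, isConj_one_right]; exact fun e => h e)] at h1
  rw [← h1]
  refine Finset.sum_congr rfl fun χ _ => ?_
  rw [deg_cast]
  simp

/-- the sum over `⟨y⟩ × P` -/
theorem Data.dvd45 (Δ : Data G) {χ : G → ℂ} (hχ : IsIrrCharacter G χ) {D T F u : ℤ} (hD : χ 1 = D) (hT : χ Δ.z = T)
    (hF : χ Δ.y = F) (hu : χ Δ.x + χ (Δ.x ^ 2) = u) : (9 : ℤ) ∣ F + 4 * u := by
  classical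
  have iP := Fintype.ofFinite Δ.P
  have iY := Fintype.ofFinite (zpowers Δ.y)
  have hc : IsCharacter G χ := isIrr_isCharacter hχ
  have hcl := isIrr_isClassFunction hχ
  let φ : zpowers Δ.y × Δ.P →* G := MonoidHom.noncommCoprod (zpowers Δ.y).subtype Δ.P.subtype
    (fun a b => Δ.comm a a.2 b b.2)
  have hφ : ∀ a b, φ (a, b) = (a : G) * b := fun a b => rfl
  have hP : ∑ b : Δ.P, χ b = D + 8 * T := by
    rw [← Finset.add_sum_erase _ _ (Finset.mem_univ (1 : Δ.P)), Subgroup.coe_one, hD,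
      Finset.sum_congr rfl (g := fun _ => (T : ℂ)), Finset.sum_const, Finset.card_erase_of_mem (Finset.mem_univ _),
      Finset.card_univ, ← Nat.card_eq_fintype_card, Δ.cardP]
    · simp
    · intro b hb
      rw [← hT]
      exact apply_eq_of_isConj hχ (Δ.c3 b (Δ.expP b b.2 fun e => (Finset.mem_erase.1 hb).1 (Subtype.ext e)))
  obtain ⟨m, hm⟩ := SmallSimple.TheoremBCor.exists_sum_eq hc Δ.P
  rw [hP, Δ.cardP] at hm
  obtain ⟨k, hk⟩ := classInner_isNat (isCharacter_comp φ hc) (isCharacter_one (G := zpowers Δ.y × Δ.P))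
  rw [classInner_def] at hk
  have hcard : Nat.card (zpowers Δ.y × Δ.P) = 45 := by
    rw [Nat.card_prod, Nat.card_zpowers, Δ.oy, Δ.cardP]
  rw [hcard, inv_mul_eq_iff_eq_mul₀ (by norm_num)] at hk
  have hs : ∑ x : zpowers Δ.y × Δ.P, χ (φ x) = D + 8 * T + 4 * (F + 4 * u) := by
    rw [Fintype.sum_prod_type]
    simp only [hφ]
    rw [← Finset.add_sum_erase _ _ (Finset.mem_univ (1 : zpowers Δ.y)), Finset.sum_congr rfl (g := fun _ =>
      ((F + 4 * u : ℤ) : ℂ)) (s₂ := (Finset.univ : Finset (zpowers Δ.y)).erase 1), Finset.sum_const,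
      Finset.card_erase_of_mem (Finset.mem_univ _), Finset.card_univ, ← Nat.card_eq_fintype_card, Nat.card_zpowers, Δ.oy]
    · simp only [Subgroup.coe_one, one_mul]
      rw [hP]
      push_cast
      simp only [nsmul_eq_mul]
      push_cast
      ring
    · intro a ha
      rw [Δ.sum a a.2 (fun e => (Finset.mem_erase.1 ha).1 (Subtype.ext e)) χ hcl iP, hF, hu]
      push_cast
      ring
  have hk' : ∑ x : zpowers Δ.y × Δ.P, χ (φ x) = 45 * k := by
    rw [← Nat.cast_ofNat (n := 45), ← hk]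
    refine Finset.sum_congr rfl fun x _ => ?_
    simp
  rw [hs] at hk'
  have e1 : D + 8 * T = m * 9 := by
    have : ((D + 8 * T : ℤ) : ℂ) = ((m * 9 : ℤ) : ℂ) := by
      push_cast
      push_cast at hm
      exact hm
    exact_mod_cast this
  have e2 : D + 8 * T + 4 * (F + 4 * u) = 45 * k := by
    have : ((D + 8 * T + 4 * (F + 4 * u) : ℤ) : ℂ) = ((45 * k : ℤ) : ℂ) := by
      push_cast
      exact hk'
    exact_mod_cast this
  omega

theorem conj_val {χ : G → ℂ} (hχ : IsIrrCharacter G χ) {g : G} (h : IsConj g⁻¹ g) : conj (χ g) = χ g := by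
  rw [← isCharacter_apply_inv (isIrr_isCharacter hχ)]
  exact apply_eq_of_isConj hχ h

omit [Finite G] in
theorem inv_pow {x : G} (h : Fifteen x) : x⁻¹ = x ^ 14 := by
  rw [inv_eq_iff_mul_eq_one, ← pow_succ']
  exact h.x15

omit [Finite G] in
theorem inv_sq {x : G} (h : Fifteen x) : (x ^ 2)⁻¹ = x ^ 13 := by
  rw [inv_eq_iff_mul_eq_one, ← pow_add]
  exact h.x15

omit [Finite G] in
theorem centralizer_sq {x : G} (h : Fifteen x) : centralizer ({x ^ 2} : Set G) = centralizer ({x} : Set G) := by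
  ext c
  rw [mem_centralizer_singleton_iff, mem_centralizer_singleton_iff]
  constructor
  · intro hc
    have h1 : Commute c (x ^ 2) := hc
    have h2 := h1.pow_right 8
    rw [← pow_mul, show x ^ (2 * 8) = x from by
      rw [show 2 * 8 = 15 + 1 from rfl, pow_succ, h.x15, one_mul]] at h2
    exact h2
  · intro hc
    have h1 : Commute c x := hc
    exact h1.pow_right 2

/-- the two columns of an element of order 15 -/
theorem Data.exists_uv (Δ : Data G) [Fintype (IrrCharacter G)] {T F : IrrCharacter G → ℤ}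
    (hT : ∀ χ : IrrCharacter G, (χ : G → ℂ) Δ.z = T χ) (hF : ∀ χ : IrrCharacter G, (χ : G → ℂ) Δ.y = F χ)
    (h5 : ∀ χ : IrrCharacter G, (5 : ℤ) ∣ (deg χ : ℤ) + 4 * F χ) :
    ∃ u v : IrrCharacter G → ℤ, (∀ χ : IrrCharacter G, (χ : G → ℂ) Δ.x + (χ : G → ℂ) (Δ.x ^ 2) = u χ) ∧
      (∀ χ : IrrCharacter G, (χ : G → ℂ) Δ.x - (χ : G → ℂ) (Δ.x ^ 2) = v χ * rt) ∧
      (∀ χ, (3 : ℤ) ∣ v χ) ∧ (∀ χ, (2 : ℤ) ∣ u χ + v χ) ∧ (∀ χ, (5 : ℤ) ∣ T χ + 2 * u χ) ∧
      (∀ χ, (9 : ℤ) ∣ F χ + 4 * u χ) ∧ ∑ χ, u χ * u χ = 90 ∧ ∑ χ, v χ * v χ = 18 ∧ ∑ χ, u χ * v χ = 0 := by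
  classical
  have := Fintype.ofFinite G
  have h1 : ∀ χ : IrrCharacter G, ∃ u v : ℤ, (χ : G → ℂ) Δ.x + (χ : G → ℂ) (Δ.x ^ 2) = u ∧
      (χ : G → ℂ) Δ.x - (χ : G → ℂ) (Δ.x ^ 2) = v * rt ∧ (3 : ℤ) ∣ v ∧ (2 : ℤ) ∣ u + v ∧ (5 : ℤ) ∣ T χ + 2 * u := by
    intro χ
    refine Δ.fx.exists_uv (isIrr_isCharacter χ.2) (D := deg χ) (F := F χ) ?_ ?_ ?_ (h5 χ)
    · rw [deg_cast]; simp
    · rw [← hT χ]
      apply apply_eq_of_isConj χ.2
      apply Δ.c3
      rw [orderOf_pow' _ (by norm_num), Δ.ox]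
      norm_num
    · rw [← hF χ]
      exact apply_eq_of_isConj χ.2 Δ.x3
  choose u v hu hv h3 h2 h5' using h1
  have hnx : ¬ IsConj (Δ.x ^ 2) Δ.x := fun h => Δ.nx h.symm
  have sA := S0145.sum_irr_mul_conj Δ.x Δ.x
  have sB := S0145.sum_irr_mul_conj (Δ.x ^ 2) (Δ.x ^ 2)
  have sAB := S0145.sum_irr_mul_conj Δ.x (Δ.x ^ 2)
  rw [if_pos (IsConj.refl _)] at sA sB
  rw [if_neg Δ.nx] at sAB
  rw [centralizer_sq Δ.fx, Δ.cx] at sB
  rw [Δ.cx] at sA
  have cA : ∀ χ : IrrCharacter G, conj ((χ : G → ℂ) Δ.x) = (χ : G → ℂ) Δ.x := fun χ =>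
    conj_val χ.2 (by rw [inv_pow Δ.fx]; exact Δ.fx.x14)
  have cB : ∀ χ : IrrCharacter G, conj ((χ : G → ℂ) (Δ.x ^ 2)) = (χ : G → ℂ) (Δ.x ^ 2) := fun χ =>
    conj_val χ.2 (by rw [inv_sq Δ.fx]; exact Δ.fx.x13)
  simp only [cA] at sA
  simp only [cB] at sB sAB
  have s5 := rt_sq
  have rt0 : rt ≠ 0 := by
    intro h
    rw [h] at s5
    norm_num at s5
  refine ⟨u, v, hu, hv, h3, h2, h5', fun χ => ?_, ?_, ?_, ?_⟩
  · refine Δ.dvd45 χ.2 (D := deg χ) (T := T χ) ?_ (hT χ) (hF χ) (hu χ)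
    rw [deg_cast]; simp
  · have h6 : ((∑ χ, u χ * u χ : ℤ) : ℂ) = ((90 : ℤ) : ℂ) := by
      push_cast
      have h7 : ∀ χ : IrrCharacter G, (u χ : ℂ) * u χ = (χ : G → ℂ) Δ.x * (χ : G → ℂ) Δ.x +
          (χ : G → ℂ) (Δ.x ^ 2) * (χ : G → ℂ) (Δ.x ^ 2) + 2 * ((χ : G → ℂ) Δ.x * (χ : G → ℂ) (Δ.x ^ 2)) := by
        intro χ
        rw [← hu χ]; ring
      rw [Finset.sum_congr rfl fun χ _ => h7 χ, Finset.sum_add_distrib, Finset.sum_add_distrib, ← Finset.mul_sum, sA, sB,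
        sAB]
      norm_num
    exact_mod_cast h6
  · have h6 : (5 : ℂ) * ((∑ χ, v χ * v χ : ℤ) : ℂ) = 5 * ((18 : ℤ) : ℂ) := by
      push_cast
      have h7 : ∀ χ : IrrCharacter G, (5 : ℂ) * ((v χ : ℂ) * v χ) = (χ : G → ℂ) Δ.x * (χ : G → ℂ) Δ.x +
          (χ : G → ℂ) (Δ.x ^ 2) * (χ : G → ℂ) (Δ.x ^ 2) - 2 * ((χ : G → ℂ) Δ.x * (χ : G → ℂ) (Δ.x ^ 2)) := by
        intro χ
        have h8 := hv χ
        linear_combination -(v χ : ℂ) * v χ * s5 - (v χ * rt + (χ : G → ℂ) Δ.x - (χ : G → ℂ) (Δ.x ^ 2)) * h8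
      rw [Finset.mul_sum, Finset.sum_congr rfl fun χ _ => h7 χ, Finset.sum_sub_distrib, Finset.sum_add_distrib,
        ← Finset.mul_sum, sA, sB, sAB]
      norm_num
    have h9 := mul_left_cancel₀ (by norm_num : (5 : ℂ) ≠ 0) h6
    exact_mod_cast h9
  · have h6 : rt * ((∑ χ, u χ * v χ : ℤ) : ℂ) = 0 := by
      push_cast
      have h7 : ∀ χ : IrrCharacter G, rt * ((u χ : ℂ) * v χ) = (χ : G → ℂ) Δ.x * (χ : G → ℂ) Δ.x -
          (χ : G → ℂ) (Δ.x ^ 2) * (χ : G → ℂ) (Δ.x ^ 2) := by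
        intro χ
        have h8 := hv χ
        rw [← hu χ]
        linear_combination -((χ : G → ℂ) Δ.x + (χ : G → ℂ) (Δ.x ^ 2)) * h8
      rw [Finset.mul_sum, Finset.sum_congr rfl fun χ _ => h7 χ, Finset.sum_sub_distrib, sA, sB, sub_self]
    have h9 := (mul_eq_zero.1 h6).resolve_left rt0
    exact_mod_cast h9

omit [Finite G] in
/-- orthogonality of `u` and `v` with a column -/
theorem orth_uv (Δ : Data G) [Fintype (IrrCharacter G)] {u v W : IrrCharacter G → ℤ}
    (hu : ∀ χ : IrrCharacter G, (χ : G → ℂ) Δ.x + (χ : G → ℂ) (Δ.x ^ 2) = u χ)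
    (hv : ∀ χ : IrrCharacter G, (χ : G → ℂ) Δ.x - (χ : G → ℂ) (Δ.x ^ 2) = v χ * rt)
    (h1 : ∑ χ : IrrCharacter G, (χ : G → ℂ) Δ.x * W χ = 0)
    (h2 : ∑ χ : IrrCharacter G, (χ : G → ℂ) (Δ.x ^ 2) * W χ = 0) :
    ∑ χ, W χ * u χ = 0 ∧ ∑ χ, W χ * v χ = 0 := by
  have s5 := rt_sq
  have rt0 : rt ≠ 0 := by
    intro h
    rw [h] at s5
    norm_num at s5
  constructor
  · have h3 : ((∑ χ, W χ * u χ : ℤ) : ℂ) = 0 := by
      push_cast
      have h4 : ∀ χ : IrrCharacter G, (W χ : ℂ) * u χ = (χ : G → ℂ) Δ.x * W χ + (χ : G → ℂ) (Δ.x ^ 2) * W χ := by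
        intro χ
        rw [← hu χ]; ring
      rw [Finset.sum_congr rfl fun χ _ => h4 χ, Finset.sum_add_distrib, h1, h2, add_zero]
    exact_mod_cast h3
  · have h3 : rt * ((∑ χ, W χ * v χ : ℤ) : ℂ) = 0 := by
      push_cast
      have h4 : ∀ χ : IrrCharacter G, rt * ((W χ : ℂ) * v χ) = (χ : G → ℂ) Δ.x * W χ - (χ : G → ℂ) (Δ.x ^ 2) * W χ := by
        intro χ
        have h8 := hv χ
        linear_combination -(W χ : ℂ) * h8
      rw [Finset.mul_sum, Finset.sum_congr rfl fun χ _ => h4 χ, Finset.sum_sub_distrib, h1, h2, sub_zero]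
    have h9 := (mul_eq_zero.1 h3).resolve_left rt0
    exact_mod_cast h9

/-- the divisibility of the combination -/
theorem dvd_comb {D T F E S R u v : ℤ} (h31 : (31 : ℤ) ∣ D + 15 * R) (h19 : (19 : ℤ) ∣ D + 6 * S)
    (h11 : (11 : ℤ) ∣ D + 10 * E) (h5 : (5 : ℤ) ∣ D + 4 * F) (h5' : (5 : ℤ) ∣ T + 2 * u) (h81 : (81 : ℤ) ∣ D + 80 * T)
    (h9 : (9 : ℤ) ∣ F + 4 * u) (h3 : (3 : ℤ) ∣ v) (h2 : (2 : ℤ) ∣ u + v) :
    (5247990 : ℤ) ∣ 2 * D + (12958 * T + ((-116622) * F + (477090 * E + ((-276210) * S + (169290 * R +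
      (58311 * u + (874665 * v + 0))))))) := by
  obtain ⟨a, ha⟩ := h31
  obtain ⟨b, hb⟩ := h19
  obtain ⟨c, hc⟩ := h11
  obtain ⟨d, hd⟩ := h5
  obtain ⟨e, he⟩ := h5'
  obtain ⟨f, hf⟩ := h81
  obtain ⟨g, hg⟩ := h9
  obtain ⟨h, hh⟩ := h3
  obtain ⟨k, hk⟩ := h2
  have d31 : (31 : ℤ) ∣ 2 * D + (12958 * T + ((-116622) * F + (477090 * E + ((-276210) * S + (169290 * R +
      (58311 * u + (874665 * v + 0))))))) :=
    ⟨2 * a + 418 * T - 3762 * F + 15390 * E - 8910 * S + 5460 * R + 1881 * u + 28215 * v, by linear_combination 2 * ha⟩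
  have d19 : (19 : ℤ) ∣ 2 * D + (12958 * T + ((-116622) * F + (477090 * E + ((-276210) * S + (169290 * R +
      (58311 * u + (874665 * v + 0))))))) :=
    ⟨2 * b + 682 * T - 6138 * F + 25110 * E - 14538 * S + 8910 * R + 3069 * u + 46035 * v, by linear_combination 2 * hb⟩
  have d11 : (11 : ℤ) ∣ 2 * D + (12958 * T + ((-116622) * F + (477090 * E + ((-276210) * S + (169290 * R +
      (58311 * u + (874665 * v + 0))))))) :=
    ⟨2 * c + 1178 * T - 10602 * F + 43370 * E - 25110 * S + 15390 * R + 5301 * u + 79515 * v, by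
      linear_combination 2 * hc⟩
  have d5 : (5 : ℤ) ∣ 2 * D + (12958 * T + ((-116622) * F + (477090 * E + ((-276210) * S + (169290 * R +
      (58311 * u + (874665 * v + 0))))))) :=
    ⟨2 * d + 12958 * e - 23326 * F + 95418 * E - 55242 * S + 33858 * R + 6479 * u + 174933 * v, by
      linear_combination 2 * hd + 12958 * he⟩
  have d2 : (2 : ℤ) ∣ 2 * D + (12958 * T + ((-116622) * F + (477090 * E + ((-276210) * S + (169290 * R +
      (58311 * u + (874665 * v + 0))))))) :=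
    ⟨D + 6479 * T - 58311 * F + 238545 * E - 138105 * S + 84645 * R + 58311 * k + 408177 * v, by
      linear_combination 58311 * hk⟩
  have d81 : (81 : ℤ) ∣ 2 * D + (12958 * T + ((-116622) * F + (477090 * E + ((-276210) * S + (169290 * R +
      (58311 * u + (874665 * v + 0))))))) :=
    ⟨2 * f + 158 * T - 6479 * 2 * g + 5890 * E - 3410 * S + 2090 * R + 6479 * u + 32395 * h, by
      linear_combination 2 * hf - 116622 * hg + 874665 * hh⟩
  have c1 := IsCoprime.mul_dvd (by norm_num) d31 d19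
  have c2 := IsCoprime.mul_dvd (by norm_num) c1 d11
  have c3 := IsCoprime.mul_dvd (by norm_num) c2 d5
  have c4 := IsCoprime.mul_dvd (by norm_num) c3 d2
  have c5 := IsCoprime.mul_dvd (by norm_num) c4 d81
  have e6 : (31 : ℤ) * 19 * 11 * 5 * 2 * 81 = 5247990 := by norm_num
  rwa [e6] at c5

/-- **the character of degree 175616** -/
theorem Data.exists_charDegree (Δ : Data G) : ∃ χ : IrrCharacter G, charDegree (χ : G → ℂ) = 175616 := by
  classical
  have := finite_irr (G := G)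
  have := Fintype.ofFinite (IrrCharacter G)
  have hG := Δ.card
  have hz : ∀ w ∈ zpowers Δ.z, w ≠ 1 → IsConj w Δ.z := fun w hw h1 =>
    Δ.c3 w (orderOf_of_card Nat.prime_three (by rw [Nat.card_zpowers, Δ.oz]) hw h1)
  obtain ⟨T, cT, vT, qT⟩ := exists_col_rat Nat.prime_three Δ.oz hz
  obtain ⟨F, cF, vF, qF⟩ := exists_col_rat Nat.prime_five Δ.oy Δ.hy
  obtain ⟨PE, E, -, -, pE, cE, -, -, -, -, qE, dE⟩ := exists_col_prime (G := G) (p := 11) (e := 10) (t := 1) (by norm_num)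
    (by norm_num) (by rw [hG]; norm_num) (by rw [hG]; norm_num) (by norm_num) Δ.h11
  obtain ⟨PS, S, -, -, pS, cS, -, -, -, -, qS, dS⟩ := exists_col_prime (G := G) (p := 19) (e := 6) (t := 3) (by norm_num)
    (by norm_num) (by rw [hG]; norm_num) (by rw [hG]; norm_num) (by norm_num) Δ.h19
  obtain ⟨PR, R, -, -, pR, cR, -, -, -, -, qR, dR⟩ := exists_col_prime (G := G) (p := 31) (e := 15) (t := 2) (by norm_num)
    (by norm_num) (by rw [hG]; norm_num) (by rw [hG]; norm_num) (by norm_num) Δ.h31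
  have pT : Nat.card (zpowers Δ.z) = 3 := by rw [Nat.card_zpowers, Δ.oz]
  have pF : Nat.card (zpowers Δ.y) = 5 := by rw [Nat.card_zpowers, Δ.oy]
  have q3 : Nat.Prime 3 := by norm_num
  have q5 : Nat.Prime 5 := by norm_num
  have q11 : Nat.Prime 11 := by norm_num
  have q19 : Nat.Prime 19 := by norm_num
  have q31 : Nat.Prime 31 := by norm_num
  have dF : ∀ χ : IrrCharacter G, (5 : ℤ) ∣ (deg χ : ℤ) + 4 * F χ := fun χ => by
    have h := cF.dvd χ
    rw [pF] at h
    exact_mod_cast h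
  obtain ⟨u, v, hu, hv, d3, d2, d5, d9, qu, qv, quv⟩ := Δ.exists_uv vT vF dF
  let D : IrrCharacter G → ℤ := fun χ => (deg χ : ℤ)
  have qD : ∑ χ, D χ * D χ = 460815505920 := by
    have h1 := SmallSimple.DegreeData.sum_sq (G := G)
    rw [hG] at h1
    have h2 : ((∑ χ : IrrCharacter G, (charDegree (χ : G → ℂ)) ^ 2 : ℕ) : ℤ) = 460815505920 := by
      rw [h1]; norm_num
    rw [← h2]
    push_cast
    refine Finset.sum_congr rfl fun χ _ => ?_
    simp only [D, deg]
    ring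
  have oD : ∀ {H : Subgroup G} {e : ℕ} {W : IrrCharacter G → ℤ}, IsCol H e W → e ≠ 0 → ∑ χ, D χ * W χ = 0 := by
    intro H e W hW he
    rw [← hW.deg he]
    exact Finset.sum_congr rfl fun χ _ => mul_comm _ _
  have oo : ∀ {H K : Subgroup G} {e f : ℕ} {W W' : IrrCharacter G → ℤ}, IsCol H e W → IsCol K f W' → e ≠ 0 →
      f ≠ 0 → (∀ x ∈ H, ∀ y ∈ K, x ≠ 1 → y ≠ 1 → ¬ IsConj x y) → ∑ χ, W χ * W' χ = 0 := by
    intro H K e f W W' hW hW' he hf h
    exact hW.orth hW' he hf h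
  have ox2 : orderOf (Δ.x ^ 2) = 15 := by
    rw [orderOf_pow' _ (by norm_num), Δ.ox]
    norm_num
  have ov : ∀ {H : Subgroup G} {e p : ℕ} {W : IrrCharacter G → ℤ}, IsCol H e W → e ≠ 0 → p.Prime → Nat.card H = p →
      ∑ χ, W χ * u χ = 0 ∧ ∑ χ, W χ * v χ = 0 := by
    intro H e p W hW he hp hH
    have hne : ∀ {g : G}, orderOf g = 15 → ∀ w ∈ H, w ≠ 1 → ¬ IsConj g w := by
      intro g hg w hw h1 h
      have h2 := orderOf_eq_of_isConj h
      rw [orderOf_of_card hp hH hw h1, hg] at h2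
      rw [← h2] at hp
      norm_num at hp
    exact orth_uv Δ hu hv (sum_val_mul_col hW he (hne Δ.ox)) (sum_val_mul_col hW he (hne ox2))
  have hne1 : ∀ {g : G}, orderOf g = 15 → g ≠ 1 := by
    rintro g hg rfl
    rw [orderOf_one] at hg
    norm_num at hg
  have oDuv : ∑ χ, D χ * u χ = 0 ∧ ∑ χ, D χ * v χ = 0 := by
    have h1 := sum_val_mul_deg (hne1 Δ.ox)
    have h2 := sum_val_mul_deg (hne1 ox2)
    refine orth_uv Δ hu hv (W := D) ?_ ?_
    · rw [← h1]
      exact Finset.sum_congr rfl fun χ _ => by simp [D]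
    · rw [← h2]
      exact Finset.sum_congr rfl fun χ _ => by simp [D]
  have key := Theta.exists_degree D (fun χ => by
      have h2 : deg χ ≠ 0 := by
        intro h3
        have h4 := deg_cast χ
        rw [h3, Nat.cast_zero] at h4
        exact (isIrr_apply_one_ne_zero χ.2) h4
      change (0 : ℤ) < deg χ
      omega) 2 5247990 460815505920 (by norm_num) (by norm_num) qD
    [(12958, T), (-116622, F), (477090, E), (-276210, S), (169290, R), (58311, u), (874665, v)]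
    (by
      simp only [List.pairwise_cons, List.mem_cons, List.not_mem_nil, or_false, forall_eq_or_imp, forall_eq,
        IsEmpty.forall_iff, implies_true, List.Pairwise.nil, and_true]
      refine ⟨⟨oD cT (by norm_num), oD cF (by norm_num), oD cE (by norm_num), oD cS (by norm_num), oD cR (by norm_num),
          oDuv.1, oDuv.2⟩,
        ⟨oo cT cF (by norm_num) (by norm_num) (nc_of_card q3 q5 (by norm_num) pT pF),
          oo cT cE (by norm_num) (by norm_num) (nc_of_card q3 q11 (by norm_num) pT pE),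
          oo cT cS (by norm_num) (by norm_num) (nc_of_card q3 q19 (by norm_num) pT pS),
          oo cT cR (by norm_num) (by norm_num) (nc_of_card q3 q31 (by norm_num) pT pR),
          (ov cT (by norm_num) q3 pT).1, (ov cT (by norm_num) q3 pT).2⟩,
        ⟨oo cF cE (by norm_num) (by norm_num) (nc_of_card q5 q11 (by norm_num) pF pE),
          oo cF cS (by norm_num) (by norm_num) (nc_of_card q5 q19 (by norm_num) pF pS),
          oo cF cR (by norm_num) (by norm_num) (nc_of_card q5 q31 (by norm_num) pF pR),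
          (ov cF (by norm_num) q5 pF).1, (ov cF (by norm_num) q5 pF).2⟩,
        ⟨oo cE cS (by norm_num) (by norm_num) (nc_of_card q11 q19 (by norm_num) pE pS),
          oo cE cR (by norm_num) (by norm_num) (nc_of_card q11 q31 (by norm_num) pE pR),
          (ov cE (by norm_num) q11 pE).1, (ov cE (by norm_num) q11 pE).2⟩,
        ⟨oo cS cR (by norm_num) (by norm_num) (nc_of_card q19 q31 (by norm_num) pS pR),
          (ov cS (by norm_num) q19 pS).1, (ov cS (by norm_num) q19 pS).2⟩,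
        ⟨(ov cR (by norm_num) q31 pR).1, (ov cR (by norm_num) q31 pR).2⟩, quv⟩)
    (fun χ => by
      simp only [List.map_cons, List.map_nil, List.sum_cons, List.sum_nil]
      have h11 := dE χ
      have h19 := dS χ
      have h31 := dR χ
      have h81 : (81 : ℤ) ∣ D χ + 80 * T χ := by
        classical
        have := Fintype.ofFinite Δ.E
        obtain ⟨m, hm⟩ := SmallSimple.TheoremBCor.exists_sum_eq (isIrr_isCharacter χ.2) Δ.E
        rw [← Finset.add_sum_erase _ _ (Finset.mem_univ (1 : Δ.E)), Subgroup.coe_one, deg_cast,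
          Finset.sum_congr rfl (g := fun _ => (T χ : ℂ)), Finset.sum_const,
          Finset.card_erase_of_mem (Finset.mem_univ _), Finset.card_univ, ← Nat.card_eq_fintype_card, Δ.cardE] at hm
        · refine ⟨m, ?_⟩
          have h6 : ((D χ + 80 * T χ : ℤ) : ℂ) = ((81 * m : ℤ) : ℂ) := by
            push_cast
            simp only [nsmul_eq_mul] at hm
            push_cast at hm
            simp only [D]
            push_cast
            linear_combination hm
          exact_mod_cast h6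
        · intro b hb
          rw [← vT]
          exact apply_eq_of_isConj χ.2 (Δ.c3 b (Δ.expE b b.2 fun e => (Finset.mem_erase.1 hb).1 (Subtype.ext e)))
      exact dvd_comb (by exact_mod_cast h31) (by exact_mod_cast h19) (by exact_mod_cast h11) (dF χ) (d5 χ) h81 (d9 χ)
        (d3 χ) (d2 χ))
    (by
      simp only [List.map_cons, List.map_nil, List.sum_cons, List.sum_nil]
      rw [qT, qF, qE, qS, qR, qu, qv, Δ.cz, Δ.cy]
      norm_num)
  obtain ⟨χ, hχ, -⟩ := key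
  refine ⟨χ, ?_⟩
  have h2 : (deg χ : ℤ) = 175616 := by
    change (deg χ : ℤ) * 5247990 = 2 * 460815505920 at hχ
    omega
  exact_mod_cast h2

end Cfsg.Agent.H210.On7
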