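import Cfsg.Agent.H210.On7.Primes
import Cfsg.Agent.H210.On7.Main
import Cfsg.Agent.H210.On7.Grp
import Cfsg.Agent.H866.ONFive

/-!
# The local data of the O'Nan group (helper210)
-/

set_option autoImplicit false
set_option maxRecDepth 100000

namespace Cfsg.Agent.H210.On7

open Subgroup Cfsg
open Cfsg.Spor (ON)
open Cfsg.Spor.ON (Gen)
open Cfsg.Agent.SporadicB.ON45Word (on)
open Cfsg.Agent.KFacts.ON.Words (hs vv v va vd eq conj wa wb wc wd we wf wg)
open Cfsg.Agent.KFacts.ON.Struct
open Cfsg.Agent.KFacts.ON.Cent (hON finite_ON cen card_K0 card_cent)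
open Cfsg.Agent.KFacts.MulSpor.ON (w w_append w_one w_cons w_iw iw)
open Cfsg.Agent.ONType.TupK (K0)
open Cfsg.Agent.H474.ONC

/-! ### the words -/

def y : ON := w [.a, .d, .g, .d, .g, .e, .d]
def sg : ON := w [.d, .e, .d]
def nn : ON := w [.e, .f, .g]

theorem y_pow : y ^ 5 = 1 := by
  have h : w [.a, .d, .g, .d, .g, .e, .d, .a, .d, .g, .d, .g, .e, .d, .a, .d, .g, .d, .g, .e, .d,
      .a, .d, .g, .d, .g, .e, .d, .a, .d, .g, .d, .g, .e, .d] = 1 := KFacts.MulSpor.ON.rel hs _ (by decide +kernel)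
  have e : y ^ 5 = w [.a, .d, .g, .d, .g, .e, .d, .a, .d, .g, .d, .g, .e, .d, .a, .d, .g, .d, .g, .e, .d,
      .a, .d, .g, .d, .g, .e, .d, .a, .d, .g, .d, .g, .e, .d] := by
    simp only [y, w, List.map_cons, List.map_nil, List.prod_cons, List.prod_nil, mul_one, pow_succ, pow_zero, one_mul,
      mul_assoc]
  rw [e, h]

theorem yp0 : p0 * y = y * p0 := by
  rw [p0, y, ← w_append, ← w_append]
  exact eq _ _ (by decide +kernel)

theorem yx1 : y * x1 = x1 * y := by
  rw [x1, y, ← w_append, ← w_append]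
  exact eq _ _ (by decide +kernel)

theorem sx1 : sg * x1 = x1 * sg := by
  rw [x1, sg, ← w_append, ← w_append]
  exact eq _ _ (by decide +kernel)

theorem sy : sg * y * sg⁻¹ = y⁻¹ := by
  have h : y⁻¹ = w (iw [.a, .d, .g, .d, .g, .e, .d]) := by rw [w_iw hs]; rfl
  rw [h, y, sg]
  apply conj
  decide +kernel

theorem ny : nn * y * nn⁻¹ = y ^ 2 := by
  have h : y ^ 2 = w [.a, .d, .g, .d, .g, .e, .d, .a, .d, .g, .d, .g, .e, .d] := by
    rw [pow_two, y, ← w_append]; rfl
  rw [h, y, nn]
  apply conj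
  decide +kernel

theorem nx1 : nn * x1 * nn⁻¹ = x1⁻¹ * x2 := by
  have h : x1⁻¹ * x2 = w (iw [.a, .b] ++ ([.f, .c, .g, .c, .g, .a, .b] ++ iw [.f, .c, .g, .c, .g])) := by
    rw [w_append, w_iw hs]; rfl
  rw [h, nn, x1]
  apply conj
  decide +kernel

theorem y_ne : y ≠ 1 := by
  intro h
  have D := R04.ONThree.data (hs := hs)
  have hee := D.ee
  have hff := D.ff
  have h0 : R04.ONThree.q * (on .e * on .d) = 1 := by
    rw [← h]
    simp only [R04.ONThree.q, y, w, List.map_cons, List.map_nil, List.prod_cons, List.prod_nil, mul_one, mul_assoc]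
  have hdi : (on .d)⁻¹ = on .d := inv_eq_of_mul_eq_one_right dd
  have hei : (on .e)⁻¹ = on .e := inv_eq_of_mul_eq_one_right hee
  have hfi : (on .f)⁻¹ = on .f := inv_eq_of_mul_eq_one_right hff
  have hq : R04.ONThree.q = on .d * on .e := by
    rw [eq_inv_of_mul_eq_one_left h0, mul_inv_rev, hdi, hei]
  have h2 : (on .d * on .e) * (on .d * on .e) = on .f := by rw [← hq]; exact D.qq
  have h3 : (on .e * on .d) * (on .e * on .d) = on .f := by
    have h4 : ((on .d * on .e) * (on .d * on .e))⁻¹ = (on .e * on .d) * (on .e * on .d) := by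
      rw [mul_inv_rev, mul_inv_rev, hdi, hei]
    rw [← h4, h2, hfi]
  have h5 : on .f * on .e = on .e * on .f := by
    calc on .f * on .e = (on .e * on .d) * (on .e * on .d) * on .e := by rw [h3]
      _ = on .e * ((on .d * on .e) * (on .d * on .e)) := by group
      _ = on .e * on .f := by rw [h2]
  have h6 : (on .f * on .e) ^ 2 = 1 := by
    rw [pow_two]
    calc on .f * on .e * (on .f * on .e) = on .f * on .e * (on .e * on .f) := by rw [h5]
      _ = on .f * (on .e * on .e) * on .f := by group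
      _ = 1 := by rw [hee, mul_one, hff]
  exact R04.ONThree.fe_ne (R04.ThreeAbs.eq_one_of_sq_cube h6 D.fe3)

theorem rel : Rel x1 x2 y p0 sg nn where
  x1p := x1_pow
  x1n := x1_ne
  yp := y_pow
  yn := y_ne
  c12 := cx12
  py := yp0
  px1 := px1
  px2 := px2
  y1 := yx1
  s1 := sx1
  sy := sy
  ny := ny
  n1 := nx1

theorem not_two : ¬ 2 ∣ Nat.card (centralizer ({y * x1} : Set ON)) := by
  have hfin := finite_ON
  have h2F : Fact (Nat.Prime 2) := ⟨by norm_num⟩
  intro h
  obtain ⟨t, ht, htx⟩ := exists_comm (by norm_num : Nat.Prime 2) h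
  obtain ⟨c, hc⟩ := isConj_iff.1 (KFacts.ON.OneClass.one_class (w := t) (by rw [← pow_two, ← ht, pow_orderOf_eq_one])
    (by rintro rfl; rw [orderOf_one] at ht; norm_num at ht))
  have hx : Commute t (y * x1) := htx
  have ty : Commute t y := by
    have := hx.pow_right 6
    rwa [rel.x6] at this
  have t1 : Commute t x1 := by
    have := hx.pow_right 10
    rwa [rel.x10] at this
  have key : ∀ {u : ON}, Commute t u → c * u * c⁻¹ ∈ K0 := by
    intro u hu
    rw [mem_K0, ← hc]
    calc c * u * c⁻¹ * (c * t * c⁻¹) = c * (u * t) * c⁻¹ := by group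
      _ = c * (t * u) * c⁻¹ := by rw [hu.eq]
      _ = c * t * c⁻¹ * (c * u * c⁻¹) := by group
  have oc : ∀ {u : ON}, orderOf (c * u * c⁻¹) = orderOf u := fun {u} =>
    orderOf_injective (MulAut.conj c).toMonoidHom (MulAut.conj c).injective u
  let Y : K0 := ⟨c * y * c⁻¹, key ty⟩
  let X : K0 := ⟨c * x1 * c⁻¹, key t1⟩
  have hY : orderOf Y = 5 := by rw [← orderOf_coe]; exact oc.trans rel.oy
  have hX : orderOf X = 3 := by rw [← orderOf_coe]; exact oc.trans rel.ox1
  have hXY : X ∈ centralizer ({Y} : Set K0) := by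
    rw [mem_centralizer_singleton_iff]
    apply Subtype.ext
    change c * x1 * c⁻¹ * (c * y * c⁻¹) = c * y * c⁻¹ * (c * x1 * c⁻¹)
    calc c * x1 * c⁻¹ * (c * y * c⁻¹) = c * (x1 * y) * c⁻¹ := by group
      _ = c * (y * x1) * c⁻¹ := by rw [yx1]
      _ = _ := by group
  have h3 := orderOf_dvd_natCard (⟨X, hXY⟩ : centralizer ({Y} : Set K0))
  rw [orderOf_mk, hX, H866.ONFive.card_five hY] at h3
  norm_num at h3

/-- **the local data of the O'Nan group** -/
theorem exists_data : Nonempty (Data ON) := by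
  have hfin := finite_ON
  obtain ⟨z, oz, c3, cz⟩ := exists_three
  have D := R04.ONThree.data hs
  have cx := rel.card_x (card_cent_five rel.oy) not_two
  exact ⟨{
    card := card_ON
    z := z
    y := y
    x := y * x1
    E := D.E
    P := rel.P
    oz := oz
    oy := rel.oy
    ox := rel.ox
    c3 := c3
    cz := cz
    hy := fun w hw h1 => (rel.cls hw h1).1
    cy := card_cent_five rel.oy
    cx := cx
    x3 := by
      have h1 : (y * x1) ^ 3 = y ^ 3 := by rw [rel.xpow, x1_pow, mul_one]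
      rw [h1]; exact rel.yy.2.1
    fx := rel.fif
    nx := rel.not_conj (card_cent_five rel.oy) cx
    cardE := D.card_E R04.ONThree.ab_ne R04.ONThree.fe_ne R04.ONThree.a_ne R04.ONThree.f_ne (R04.ONThree.inv hs)
    expE := by
      rintro _ ⟨i, j, k, l, rfl⟩ hw
      have : Fact (Nat.Prime 3) := ⟨by norm_num⟩
      refine orderOf_eq_prime ?_ hw
      rw [pow_succ, pow_two]
      nth_rewrite 3 [← inv_inv (R04.ThreeAbs.el _ _ _ _ _ _ i j k l)]
      rw [D.el_inv, D.el_mul, ← two_mul, ← two_mul, ← two_mul, ← two_mul, mul_inv_cancel]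
    cardP := rel.cardP
    expP := rel.expP
    comm := rel.comm
    sum := rel.sum
    h11 := h11
    h19 := h19
    h31 := h31 }⟩

/-- **the character of degree 175616 of the O'Nan group** -/
theorem exists_charDegree : ∃ χ : IrrCharacter ON, charDegree (χ : ON → ℂ) = 175616 := by
  have hfin := finite_ON
  obtain ⟨D⟩ := exists_data
  exact D.exists_charDegree

end Cfsg.Agent.H210.On7
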