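import Cfsg.Agent.ONType.OddCentE
import Cfsg.Agent.S0206

/-!
# `CData` from relations (helper210)
-/

set_option autoImplicit false

namespace Cfsg.Agent.H210.On7

open Subgroup
open Cfsg.Agent.ONType.OddCent (CData)

section

variable {C : Type*} [Group C]

/-- the group of the products `x₁ ^ i * x₂ ^ j` -/
def PP (x₁ x₂ : C) (h₁ : x₁ ^ 3 = 1) (h₂ : x₂ ^ 3 = 1) (h : Commute x₁ x₂) : Subgroup C where
  carrier := {c | ∃ i j : ℕ, c = x₁ ^ i * x₂ ^ j}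
  one_mem' := ⟨0, 0, by simp⟩
  mul_mem' := by
    rintro _ _ ⟨i, j, rfl⟩ ⟨k, l, rfl⟩
    refine ⟨i + k, j + l, ?_⟩
    rw [pow_add, pow_add]
    have := ((h.pow_pow k j).symm).eq
    calc x₁ ^ i * x₂ ^ j * (x₁ ^ k * x₂ ^ l) = x₁ ^ i * (x₂ ^ j * x₁ ^ k) * x₂ ^ l := by group
      _ = x₁ ^ i * (x₁ ^ k * x₂ ^ j) * x₂ ^ l := by rw [this]
      _ = _ := by group
  inv_mem' := by
    rintro _ ⟨i, j, rfl⟩
    refine ⟨2 * i, 2 * j, ?_⟩
    rw [inv_eq_iff_mul_eq_one]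
    have := ((h.pow_pow (2 * i) j).symm).eq
    calc x₁ ^ i * x₂ ^ j * (x₁ ^ (2 * i) * x₂ ^ (2 * j)) = x₁ ^ i * (x₂ ^ j * x₁ ^ (2 * i)) * x₂ ^ (2 * j) := by group
      _ = x₁ ^ i * (x₁ ^ (2 * i) * x₂ ^ j) * x₂ ^ (2 * j) := by rw [this]
      _ = x₁ ^ (3 * i) * x₂ ^ (3 * j) := by
        rw [show 3 * i = i + 2 * i by ring, show 3 * j = j + 2 * j by ring, pow_add, pow_add]; group
      _ = 1 := by rw [pow_mul, pow_mul, h₁, h₂, one_pow, one_pow, one_mul]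

variable {x₁ x₂ : C} {h₁ : x₁ ^ 3 = 1} {h₂ : x₂ ^ 3 = 1} {h : Commute x₁ x₂}

theorem mem_PP {c : C} : c ∈ PP x₁ x₂ h₁ h₂ h ↔ ∃ i j : ℕ, c = x₁ ^ i * x₂ ^ j := Iff.rfl

theorem pow_mod {x : C} (h : x ^ 3 = 1) (i : ℕ) : x ^ i = x ^ (i % 3) := by
  conv_lhs => rw [← Nat.div_add_mod i 3, pow_add, pow_mul, h, one_pow, one_mul]

theorem expPP {c : C} (hc : c ∈ PP x₁ x₂ h₁ h₂ h) : c ^ 3 = 1 := by
  obtain ⟨i, j, rfl⟩ := hc
  rw [(h.pow_pow i j).mul_pow, ← pow_mul, ← pow_mul, mul_comm i, mul_comm j, pow_mul, pow_mul, h₁, h₂, one_pow,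
    one_pow, one_mul]

theorem commPP {c d : C} (hc : c ∈ PP x₁ x₂ h₁ h₂ h) (hd : d ∈ PP x₁ x₂ h₁ h₂ h) : c * d = d * c := by
  obtain ⟨i, j, rfl⟩ := hc
  obtain ⟨k, l, rfl⟩ := hd
  have e1 : Commute (x₁ ^ i) (x₁ ^ k * x₂ ^ l) :=
    ((Commute.refl x₁).pow_pow i k).mul_right (h.pow_pow i l)
  have e2 : Commute (x₂ ^ j) (x₁ ^ k * x₂ ^ l) :=
    (h.symm.pow_pow j k).mul_right ((Commute.refl x₂).pow_pow j l)
  exact (e1.mul_left e2).eq

theorem not_mem {p : C} (hp1 : p * x₁ * p⁻¹ = x₂) (hp2 : p * x₂ * p⁻¹ = x₁⁻¹) (h1 : x₁ ≠ 1) (h₁ : x₁ ^ 3 = 1)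
    (i : ℕ) : x₁ ^ i ≠ x₂ := by
  intro hi
  have e1 : x₁ * x₁ ≠ 1 := by
    intro h
    apply h1
    calc x₁ = x₁ ^ 3 * (x₁ * x₁)⁻¹ := by group
      _ = 1 := by rw [h₁, h]; group
  have key : x₂ ^ i = x₁⁻¹ := by
    rw [← hp2, ← hi, ← conj_pow, hp1]
    rw [← hi]
  rw [pow_mod h₁] at hi
  have h3 : i % 3 < 3 := Nat.mod_lt _ (by norm_num)
  have h2 : x₂ ^ 3 = 1 := by rw [← hp1, conj_pow, h₁]; group
  rw [pow_mod h2] at key
  interval_cases hh : i % 3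
  · rw [pow_zero] at key
    exact h1 (inv_eq_one.1 key.symm)
  · rw [pow_one] at hi key
    rw [← hi] at key
    apply e1
    nth_rewrite 1 [key]
    group
  · rw [← hi] at key
    apply e1
    have e2 : (x₁ ^ 2) ^ 2 = x₁ := by
      calc (x₁ ^ 2) ^ 2 = x₁ ^ 3 * x₁ := by group
        _ = x₁ := by rw [h₁, one_mul]
    rw [e2] at key
    nth_rewrite 1 [key]
    group

theorem card_PP {p : C} (hp1 : p * x₁ * p⁻¹ = x₂) (hp2 : p * x₂ * p⁻¹ = x₁⁻¹) (h1 : x₁ ≠ 1) :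
    Nat.card (PP x₁ x₂ h₁ h₂ h) = 9 := by
  have key : ∀ m n : ℕ, x₁ ^ m = x₂ ^ n → 3 ∣ m ∧ 3 ∣ n := by
    intro m n hmn
    have hn : 3 ∣ n := by
      by_contra hn
      have h3 : n % 3 = 1 ∨ n % 3 = 2 := by omega
      rcases h3 with h3 | h3
      · rw [pow_mod h₂, h3, pow_one] at hmn
        exact not_mem hp1 hp2 h1 h₁ m hmn
      · rw [pow_mod h₂, h3] at hmn
        apply not_mem hp1 hp2 h1 h₁ (2 * m)
        rw [mul_comm, pow_mul, hmn]
        calc (x₂ ^ 2) ^ 2 = x₂ ^ 3 * x₂ := by group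
          _ = x₂ := by rw [h₂, one_mul]
    refine ⟨?_, hn⟩
    obtain ⟨k, rfl⟩ := hn
    rw [pow_mul, h₂, one_pow] at hmn
    have ho : orderOf x₁ = 3 := by
      have : Fact (Nat.Prime 3) := ⟨Nat.prime_three⟩
      exact orderOf_eq_prime h₁ h1
    rw [← ho]
    exact orderOf_dvd_of_pow_eq_one hmn
  let F : Fin 3 × Fin 3 → PP x₁ x₂ h₁ h₂ h := fun ij => ⟨x₁ ^ (ij.1 : ℕ) * x₂ ^ (ij.2 : ℕ), ij.1, ij.2, rfl⟩
  have hF : Function.Bijective F := by
    constructor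
    · rintro ⟨i, j⟩ ⟨k, l⟩ hh
      have e : x₁ ^ (i : ℕ) * x₂ ^ (j : ℕ) = x₁ ^ (k : ℕ) * x₂ ^ (l : ℕ) := congrArg Subtype.val hh
      have e2 : x₁ ^ ((i : ℕ) + 2 * k) = x₂ ^ ((l : ℕ) + 2 * j) := by
        have e3 : x₂ ^ ((j : ℕ) + 2 * j) = 1 := by
          rw [show (j : ℕ) + 2 * j = 3 * j by ring, pow_mul, h₂, one_pow]
        have e4 : x₁ ^ ((k : ℕ) + 2 * k) = 1 := by
          rw [show (k : ℕ) + 2 * k = 3 * k by ring, pow_mul, h₁, one_pow]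
        calc x₁ ^ ((i : ℕ) + 2 * k) = x₁ ^ (2 * (k : ℕ)) * (x₁ ^ (i : ℕ) * x₂ ^ (j : ℕ)) * x₂ ^ (2 * (j : ℕ)) *
              (x₂ ^ ((j : ℕ) + 2 * j))⁻¹ := by
              rw [pow_add, pow_add, (Commute.refl x₁).pow_pow i (2 * k) |>.eq]
              group
          _ = x₁ ^ ((k : ℕ) + 2 * k) * x₂ ^ ((l : ℕ) + 2 * j) := by
              rw [e3, e, pow_add, pow_add, (Commute.refl x₁).pow_pow (k : ℕ) (2 * k) |>.eq]
              group
          _ = _ := by rw [e4, one_mul]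
      obtain ⟨a1, a2⟩ := key _ _ e2
      have := i.2; have := j.2; have := k.2; have := l.2
      rw [Prod.mk.injEq, Fin.ext_iff, Fin.ext_iff]
      omega
    · rintro ⟨c, i, j, rfl⟩
      refine ⟨(⟨i % 3, Nat.mod_lt _ (by norm_num)⟩, ⟨j % 3, Nat.mod_lt _ (by norm_num)⟩), Subtype.ext ?_⟩
      show x₁ ^ (i % 3) * x₂ ^ (j % 3) = _
      rw [← pow_mod h₁, ← pow_mod h₂]
  rw [← Nat.card_congr (Equiv.ofBijective F hF)]
  simp

end

theorem mk_cdata {C : Type*} [Group C] [Finite C] {f v d p g x₁ x₂ : C} (hf1 : f ≠ 1) (hff : f * f = 1)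
    (hfc : ∀ c : C, c * f = f * c) (hv : v * v = f) (hd1 : d ≠ 1) (hdd : d * d = 1) (hdv : d * v * d⁻¹ = v⁻¹)
    (h₁ : x₁ ^ 3 = 1) (hx1 : x₁ ≠ 1) (hc : Commute x₁ x₂) (hp1 : p * x₁ * p⁻¹ = x₂) (hp2 : p * x₂ * p⁻¹ = x₁⁻¹)
    (hg : g * x₁ * g⁻¹ = x₁⁻¹ * x₂) (dx1 : Commute d x₁) (dx2 : Commute d x₂) (vx1 : Commute v x₁)
    (vx2 : Commute v x₂) (hcent : ∀ x : C, orderOf x = 3 → Nat.card (centralizer ({x} : Set C)) ≤ 72)
    (h27 : ¬ 27 ∣ Nat.card C) : ∃ P D : Subgroup C, CData f P D p := by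
  have h₂ : x₂ ^ 3 = 1 := by rw [← hp1, conj_pow, h₁]; group
  have h2F : Fact (Nat.Prime 2) := ⟨Nat.prime_two⟩
  have h3F : Fact (Nat.Prime 3) := ⟨Nat.prime_three⟩
  have hof : orderOf f = 2 := orderOf_eq_prime (by rw [pow_two, hff]) hf1
  have hod : orderOf d = 2 := orderOf_eq_prime (by rw [pow_two, hdd]) hd1
  have hov : orderOf v = 4 := by
    have h1 : orderOf v ∣ 2 ^ 2 := orderOf_dvd_of_pow_eq_one (by
      rw [show 2 ^ 2 = 2 * 2 by norm_num, pow_mul, pow_two v, hv, pow_two, hff])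
    obtain ⟨k, hk, hk2⟩ := (Nat.dvd_prime_pow Nat.prime_two).1 h1
    have h2 : ¬ orderOf v ∣ 2 := by
      intro h
      have h3 := orderOf_dvd_iff_pow_eq_one.1 h
      rw [pow_two, hv] at h3
      exact hf1 h3
    have h3 : ¬ k ≤ 1 := fun h => h2 (by rw [hk2]; exact pow_dvd_pow 2 h)
    have h4 : k = 2 := by omega
    rw [hk2, h4]; norm_num
  have hdi : d⁻¹ = d := inv_eq_of_mul_eq_one_right hdd
  have hvd2 : (v * d) * (v * d) = 1 := by
    have : d * v = v⁻¹ * d := by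
      rw [← hdv]; group
    calc (v * d) * (v * d) = v * (d * v) * d := by group
      _ = v * (v⁻¹ * d) * d := by rw [this]
      _ = d * d := by group
      _ = 1 := hdd
  have hvd1 : v * d ≠ 1 := by
    intro h
    have h1 : v = d := by rw [← hdi]; exact eq_inv_of_mul_eq_one_left h
    rw [h1, hod] at hov
    norm_num at hov
  have hovd : orderOf (v * d) = 2 := orderOf_eq_prime (by rw [pow_two, hvd2]) hvd1
  have hne : v * d ≠ d := by
    intro h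
    have h1 : v = 1 := mul_eq_right.1 h
    rw [h1, orderOf_one] at hov
    norm_num at hov
  have hmul : v * d * d = v := by rw [mul_assoc, hdd, mul_one]
  have hD := S0206.result (v * d) d hovd hod hne
  rw [hmul, hov] at hD
  let D : Subgroup C := closure ({v * d, d} : Set C)
  let P : Subgroup C := PP x₁ x₂ h₁ h₂ hc
  have hdD : d ∈ D := subset_closure (Or.inr rfl)
  have hvD : v ∈ D := by
    have h1 : v * d ∈ D := subset_closure (Or.inl rfl)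
    have := D.mul_mem h1 hdD
    rwa [hmul] at this
  have hDP : ∀ y ∈ D, ∀ q ∈ P, y * q = q * y := by
    have hle : D ≤ centralizer (P : Set C) := by
      rw [closure_le]
      have hd' : ∀ q ∈ P, q * d = d * q := by
        rintro _ ⟨i, j, rfl⟩
        exact ((dx1.pow_right i).mul_right (dx2.pow_right j)).symm.eq
      have hv' : ∀ q ∈ P, q * v = v * q := by
        rintro _ ⟨i, j, rfl⟩
        exact ((vx1.pow_right i).mul_right (vx2.pow_right j)).symm.eq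
      rintro y (rfl | rfl)
      · rw [SetLike.mem_coe, mem_centralizer_iff]
        intro q hq
        rw [← mul_assoc, hv' q hq, mul_assoc, hd' q hq, mul_assoc]
      · rw [SetLike.mem_coe, mem_centralizer_iff]
        intro q hq
        exact hd' q hq
    intro y hy q hq
    exact (mem_centralizer_iff.1 (hle hy) q hq).symm
  have cardP : Nat.card P = 9 := card_PP hp1 hp2 hx1
  have cardD : Nat.card D = 8 := by
    obtain ⟨e⟩ := hD
    rw [Nat.card_congr e.toEquiv, DihedralGroup.nat_card]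
  have hx1P : x₁ ∈ P := ⟨1, 0, by simp⟩
  have hx2P : x₂ ∈ P := ⟨0, 1, by simp⟩
  -- the map `P × D`
  have hcen : ∀ x ∈ P, x ≠ 1 → ∀ y : C, y * x = x * y → ∃ q ∈ P, ∃ z ∈ D, y = q * z := by
    intro x hx hx' y hy
    have hox : orderOf x = 3 := orderOf_eq_prime (expPP hx) hx'
    let F : P × D → centralizer ({x} : Set C) := fun a => ⟨(a.1 : C) * a.2, by
      rw [mem_centralizer_singleton_iff]
      have e1 := commPP a.1.2 hx
      have e2 := hDP a.2 a.2.2 x hx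
      rw [mul_assoc, e2, ← mul_assoc, e1, mul_assoc]⟩
    have hF : Function.Injective F := by
      rintro ⟨a, b⟩ ⟨a', b'⟩ hh
      have e : (a : C) * b = a' * b' := congrArg Subtype.val hh
      have e1 : (a' : C)⁻¹ * a = b' * (b : C)⁻¹ := by
        calc (a' : C)⁻¹ * a = (a' : C)⁻¹ * (a * b) * (b : C)⁻¹ := by group
          _ = _ := by rw [e]; group
      have e2 : ((a' : C)⁻¹ * a) ^ 3 = 1 := expPP (P.mul_mem (P.inv_mem a'.2) a.2)
      have e3 : ((a' : C)⁻¹ * a) ^ 8 = 1 := by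
        rw [e1]
        have h1 : (b' * (b : C)⁻¹) ∈ D := D.mul_mem b'.2 (D.inv_mem b.2)
        have h2 := pow_card_eq_one' (G := D) (x := ⟨_, h1⟩)
        rw [cardD] at h2
        exact congrArg Subtype.val h2
      have e4 : (a' : C)⁻¹ * a = 1 := by
        have h1 : orderOf ((a' : C)⁻¹ * a) ∣ 1 := by
          rw [show (1 : ℕ) = Nat.gcd 3 8 by norm_num]
          exact Nat.dvd_gcd (orderOf_dvd_of_pow_eq_one e2) (orderOf_dvd_of_pow_eq_one e3)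
        exact orderOf_eq_one_iff.1 (Nat.dvd_one.1 h1)
      have e5 : (a : C) = a' := by
        have := congrArg (fun z => (a' : C) * z) e4
        simpa using this
      have e6 : (b : C) = b' := by
        rw [e5] at e
        exact mul_left_cancel e
      exact Prod.ext (Subtype.ext e5) (Subtype.ext e6)
    have hbij : Function.Bijective F := by
      apply hF.bijective_of_nat_card_le
      rw [Nat.card_prod, cardP, cardD]
      exact hcent x hox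
    obtain ⟨⟨a, b⟩, hab⟩ := hbij.2 ⟨y, mem_centralizer_singleton_iff.2 hy⟩
    exact ⟨a, a.2, b, b.2, (congrArg Subtype.val hab).symm⟩
  refine ⟨P, D, ?_⟩
  refine
    { of := hof
      fc := hfc
      syl := h27
      cardP := cardP
      expP := fun q hq => expPP hq
      fD := by rw [← hv]; exact D.mul_mem hvD hvD
      dih := hD
      DP := hDP
      cent := hcen
      kP := ?_
      kinv := ?_
      trans := ?_ }
  · rintro _ ⟨i, j, rfl⟩
    have e : p * (x₁ ^ i * x₂ ^ j) * p⁻¹ = (p * x₁ * p⁻¹) ^ i * (p * x₂ * p⁻¹) ^ j := by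
      rw [conj_pow, conj_pow]; group
    rw [e, hp1, hp2]
    exact P.mul_mem (P.pow_mem hx2P _) (P.pow_mem (P.inv_mem hx1P) _)
  · rintro _ ⟨i, j, rfl⟩
    have e1 : (p * p) * x₁ * (p * p)⁻¹ = x₁⁻¹ := by
      calc (p * p) * x₁ * (p * p)⁻¹ = p * (p * x₁ * p⁻¹) * p⁻¹ := by group
        _ = _ := by rw [hp1, hp2]
    have e2 : (p * p) * x₂ * (p * p)⁻¹ = x₂⁻¹ := by
      calc (p * p) * x₂ * (p * p)⁻¹ = p * (p * x₂ * p⁻¹) * p⁻¹ := by group
        _ = (p * x₁ * p⁻¹)⁻¹ := by rw [hp2]; group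
        _ = _ := by rw [hp1]
    have e : (p * p) * (x₁ ^ i * x₂ ^ j) * (p * p)⁻¹ =
        ((p * p) * x₁ * (p * p)⁻¹) ^ i * ((p * p) * x₂ * (p * p)⁻¹) ^ j := by
      rw [conj_pow, conj_pow]; group
    rw [e, e1, e2, mul_inv_rev, ← inv_pow, ← inv_pow]
    exact ((hc.inv_inv).pow_pow i j).eq
  · -- transitivity: every nontrivial element is conjugate to `x₁`
    have key : ∀ x ∈ P, x ≠ 1 → ∃ u : C, u * x₁ * u⁻¹ = x := by
      have step : ∀ {x y : C}, (∃ u : C, u * x₁ * u⁻¹ = x) → p * x * p⁻¹ = y → ∃ u : C, u * x₁ * u⁻¹ = y := by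
        rintro x y ⟨u, rfl⟩ rfl
        exact ⟨p * u, by group⟩
      have k1 : ∃ u : C, u * x₁ * u⁻¹ = x₁ := ⟨1, by group⟩
      have k2 : ∃ u : C, u * x₁ * u⁻¹ = x₂ := step k1 hp1
      have k3 : ∃ u : C, u * x₁ * u⁻¹ = x₁⁻¹ := step k2 hp2
      have k4 : ∃ u : C, u * x₁ * u⁻¹ = x₂⁻¹ := step k3 (by rw [← hp1]; group)
      have l1 : ∃ u : C, u * x₁ * u⁻¹ = x₁⁻¹ * x₂ := ⟨g, hg⟩
      have hp1i : p * x₁⁻¹ * p⁻¹ = x₂⁻¹ := by rw [← hp1]; group
      have hp2i : p * x₂⁻¹ * p⁻¹ = x₁ := by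
        calc p * x₂⁻¹ * p⁻¹ = (p * x₂ * p⁻¹)⁻¹ := by group
          _ = x₁ := by rw [hp2, inv_inv]
      have l2 : ∃ u : C, u * x₁ * u⁻¹ = x₂⁻¹ * x₁⁻¹ := step l1 (by
        calc p * (x₁⁻¹ * x₂) * p⁻¹ = (p * x₁⁻¹ * p⁻¹) * (p * x₂ * p⁻¹) := by group
          _ = _ := by rw [hp1i, hp2])
      have l3 : ∃ u : C, u * x₁ * u⁻¹ = x₁ * x₂⁻¹ := step l2 (by
        calc p * (x₂⁻¹ * x₁⁻¹) * p⁻¹ = (p * x₂⁻¹ * p⁻¹) * (p * x₁⁻¹ * p⁻¹) := by group
          _ = _ := by rw [hp1i, hp2i])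
      have l4 : ∃ u : C, u * x₁ * u⁻¹ = x₂ * x₁ := step l3 (by
        calc p * (x₁ * x₂⁻¹) * p⁻¹ = (p * x₁ * p⁻¹) * (p * x₂⁻¹ * p⁻¹) := by group
          _ = _ := by rw [hp1, hp2i])
      have sq1 : x₁ ^ 2 = x₁⁻¹ := by
        rw [eq_inv_iff_mul_eq_one, ← pow_succ, h₁]
      have sq2 : x₂ ^ 2 = x₂⁻¹ := by
        rw [eq_inv_iff_mul_eq_one, ← pow_succ, h₂]
      rintro _ ⟨i, j, rfl⟩ hne
      rw [pow_mod h₁, pow_mod h₂] at hne ⊢
      have hi : i % 3 < 3 := Nat.mod_lt _ (by norm_num)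
      have hj : j % 3 < 3 := Nat.mod_lt _ (by norm_num)
      interval_cases i % 3 <;> interval_cases j % 3 <;> simp only [pow_zero, pow_one, one_mul, mul_one, sq1, sq2] at hne ⊢
      · exact absurd rfl hne
      · exact k2
      · exact k4
      · exact k1
      · rw [hc.eq]; exact l4
      · exact l3
      · exact k3
      · exact l1
      · rw [(hc.inv_inv).eq]; exact l2
    intro x hx y hy hx' hy'
    obtain ⟨u, rfl⟩ := key x hx hx'
    obtain ⟨w, rfl⟩ := key y hy hy'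
    exact ⟨w * u⁻¹, by group⟩

end Cfsg.Agent.H210.On7
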