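import Cfsg.Agent.H210.On7.Loc
import Cfsg.Agent.H680.PBON
import Cfsg.Agent.H978.NB.Char
import Cfsg.Agent.H536.NB.Tools

/-!
# S5003, the row of the O'Nan group (helper210)

`p = 3, 5` : an element of order 15; `p = 7` : the character of degree `175616 = 2 ^ 9 * 7 ^ 3`; `p = 11, 19, 31` : an
irreducible character of degree divisible by `p`.
-/

set_option autoImplicit false

namespace Cfsg.Agent.H210.On7

open Subgroup Cfsg
open Cfsg.Spor (ON)
open Cfsg.Agent.KFacts.ON.Cent (hON finite_ON)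
open Cfsg.Agent.H474.ONC
open Cfsg.Agent.H7.NBp

theorem im_of_row {p : ℕ} (h : H133.PB.Row p ON) : H33.IM p ON := by
  obtain ⟨q, hq, -, -, hd⟩ := h
  obtain ⟨M, hM⟩ := Blocks.ExistsModular.exists_isPModular hq
  obtain ⟨χ, -, hχ⟩ := hd M hM
  exact ⟨χ, hχ⟩

theorem nb_ON {p : ℕ} [hp : Fact p.Prime] (h2 : p ≠ 2) (ih : H718.NBIH.IH p (Nat.card ON)) : NB p ON := by
  have hfin := finite_ON
  have hs : IsSimpleGroup ON := hON.1
  have hna : ¬ IsMulCommutative ON := by
    intro h
    have h1 := px1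
    rw [h.is_comm.comm p0 x1, mul_inv_cancel_right] at h1
    have h3 := px2
    rw [h.is_comm.comm p0 x2, mul_inv_cancel_right, ← h1] at h3
    have h4 : x1 ^ 2 = 1 := by rw [pow_two]; nth_rewrite 1 [h3]; exact inv_mul_cancel _
    exact x1_ne (R04.ThreeAbs.eq_one_of_sq_cube h4 x1_pow)
  by_cases hd : p ∣ Nat.card ON
  · have hd' := hd
    rw [card_ON] at hd'
    rcases H680.PBON.cases hp.out hd' with rfl | rfl | rfl | rfl | rfl | rfl | rfl
    · exact absurd rfl h2
    · refine H978.NB.nb_of_order (r := 5) (a := 4) hna ih (by norm_num) (by norm_num) ⟨y * x1, by rw [rel.ox]⟩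
        (by rw [card_ON]; norm_num) ?_
      intro j h1 h4
      interval_cases j <;> norm_num
    · refine H978.NB.nb_of_order (r := 3) (a := 1) hna ih (by norm_num) (by norm_num) ⟨y * x1, by rw [rel.ox]⟩
        (by rw [card_ON]; norm_num) ?_
      intro j h1 h4
      omega
    · obtain ⟨χ, hχ⟩ := exists_charDegree
      exact NB.of_dz' χ (by rw [hχ]; norm_num) (by rw [hχ, card_ON]; norm_num)
    · exact H536.NB.Tools.NB_of_IM (im_of_row H680.PBON.row_nineteen) (by rw [card_ON]; norm_num)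
    · exact H536.NB.Tools.NB_of_IM (im_of_row (H680.PBON.row_eleven (Or.inr (Or.inl rfl)))) (by rw [card_ON]; norm_num)
    · exact H536.NB.Tools.NB_of_IM (im_of_row (H680.PBON.row_eleven (Or.inr (Or.inr rfl)))) (by rw [card_ON]; norm_num)
  · have : Nontrivial ON := hs.toNontrivial
    exact NB.of_not_dvd hd

/-- **the row of the O'Nan group** -/
theorem nb_on {p : ℕ} [hp : Fact p.Prime] (h2 : p ≠ 2) (S : Type) [Group S] [Finite S] [IsSimpleGroup S]
    (h : Spor.IsoON S) (ih : Cfsg.Agent.H718.NBIH.IH p (Nat.card S)) : Cfsg.Agent.H7.NBp.NB p S := by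
  obtain ⟨e⟩ := h
  rw [Nat.card_congr e.toEquiv] at ih
  exact NB.iso e.symm (nb_ON h2 ih)

end Cfsg.Agent.H210.On7
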